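import Mathlib
import Cfsg.Agent.Lib.ThreeTrans.CH3
import Cfsg.Agent.Lib.Unitary.SU32
import Cfsg.Agent.Lib.Comput.NetModel

/-! # Splitting over `O₂(G)` from a simply connected family of fixed point free elements; the case `SU₅(2)` -/

set_option autoImplicit false
set_option Elab.async false
set_option linter.unusedSimpArgs false
set_option linter.unnecessarySeqFocus false

namespace CfsgLib.ThreeTrans.CH

open Cfsg Subgroup

section Split

variable {G H I : Type*} [Group G] [Finite G] [Group H] {π : G →* H}

/-- no non-trivial element of the kernel is centralised -/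
def Good (π : G →* H) (x : G) : Prop := ∀ q, π q = 1 → Commute q x → q = 1

theorem Good.exists_conj {x y : G} (hx : Good π x) (h : π y = π x) : ∃ q, π q = 1 ∧ q * x * q⁻¹ = y := by
  let f : π.ker → π.ker := fun q => ⟨q * x * q⁻¹ * x⁻¹, by simp [MonoidHom.mem_ker, MonoidHom.mem_ker.1 q.2]⟩
  have hf : Function.Injective f := fun q r e => by
    have e' : q.1 * x * q.1⁻¹ = r.1 * x * r.1⁻¹ := mul_right_cancel (congrArg Subtype.val e)
    have := hx (r.1⁻¹ * q.1) (r⁻¹ * q).2 (by
      change r.1⁻¹ * q.1 * x = x * (r.1⁻¹ * q.1)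
      calc r.1⁻¹ * q.1 * x = r.1⁻¹ * (q.1 * x * q.1⁻¹) * q.1 := by group
        _ = _ := by rw [e']; group)
    exact Subtype.ext (inv_mul_eq_one.1 this).symm
  obtain ⟨q, e⟩ := Finite.surjective_of_injective hf ⟨y * x⁻¹, by simp [MonoidHom.mem_ker, h]⟩
  exact ⟨q, q.2, mul_right_cancel (congrArg Subtype.val e)⟩

omit [Finite G] in
theorem Good.conj {x : G} (hx : Good π x) (g : G) : Good π (g * x * g⁻¹) := fun q hq c => by
  have := hx (g⁻¹ * q * g) (by simp [hq]) ((commute_conj_left_iff' g x q).1 c.symm).symm
  calc q = g * (g⁻¹ * q * g) * g⁻¹ := by group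
    _ = 1 := by rw [this]; group

theorem Good.lift {x : G} (hx : Good π x) (hπ : Function.Surjective π) {h : H} (c : Commute h (π x)) :
    ∃ y, π y = h ∧ Commute y x := by
  obtain ⟨y, rfl⟩ := hπ h
  obtain ⟨q, hq, e⟩ := hx.exists_conj (y := y * x * y⁻¹) (by simp [c.eq])
  refine ⟨q⁻¹ * y, by simp [hq], ?_⟩
  change q⁻¹ * y * x = x * (q⁻¹ * y)
  calc q⁻¹ * y * x = q⁻¹ * (y * x * y⁻¹) * y := by group
    _ = _ := by rw [← e]; group

omit [Finite G] in
theorem Good.uniq {x y y' : G} (hx : Good π x) (e : π y = π y') (c : Commute y x) (c' : Commute y' x) : y = y' :=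
  mul_inv_eq_one.1 (hx _ (by simp [e]) (c.mul_left c'.inv_left))

omit [Finite G] in
theorem Good.tri {x y y' : G} (hx : Good π x) (e : Commute (π y) (π y')) (c : Commute y x) (c' : Commute y' x) :
    Commute y y' := hx.uniq (by simp [e.eq]) (c.mul_left c') (c'.mul_left c)

/-- **Splitting criterion.** -/
theorem exists_complement_of_family (hπ : Function.Surjective π) (z : I → H) (adj : I → I → Prop) (i0 : I)
    (hr : ∀ i, adj i i) (hs : ∀ i j, adj i j → adj j i) (hc : ∀ i j, adj i j → Commute (z i) (z j))
    (hb : ∀ i j, adj i j → ∃ u, adj u i0 ∧ adj u i ∧ adj u j)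
    (hm : ∀ y u v, adj u i0 → adj u y → adj v i0 → adj v y → ∃ w, adj w i0 ∧ adj w y ∧ adj w u ∧ adj w v)
    (he : ∀ h : H, ∃ σ : I → I, (∀ i, h * z i * h⁻¹ = z (σ i)) ∧ ∀ i j, adj i j → adj (σ i) (σ j))
    (hi : Function.Injective z) (ht : ∀ i, ∃ h, h * z i0 * h⁻¹ = z i) (hg : closure (Set.range z) = ⊤)
    {x0 : G} (h0 : π x0 = z i0) (hx0 : Good π x0) : ∃ K : Subgroup G, π.ker.IsComplement' K := by
  have good : ∀ i x, π x = z i → Good π x := fun i x hx => by
    obtain ⟨h, e⟩ := ht i
    obtain ⟨g, rfl⟩ := hπ h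
    obtain ⟨q, -, rfl⟩ := (hx0.conj g).exists_conj (y := x) (by simp [hx, h0, e])
    exact (hx0.conj g).conj q
  have lift : ∀ i j x, π x = z i → adj j i → ∃ y, π y = z j ∧ Commute y x := fun i j x hx a =>
    (good i x hx).lift hπ (hx ▸ hc j i a)
  let S : I → G → Prop := fun i y => π y = z i ∧ ∃ u x, adj u i0 ∧ adj u i ∧ π x = z u ∧ Commute x x0 ∧ Commute y x
  have ex : ∀ i, ∃ y, S i y := fun i => by
    obtain ⟨u, a1, a2, -⟩ := hb i i (hr i)
    obtain ⟨x, e1, c1⟩ := lift i0 u x0 h0 a1
    obtain ⟨y, e2, c2⟩ := lift u i x e1 (hs _ _ a2)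
    exact ⟨y, e2, u, x, a1, a2, e1, c1, c2⟩
  have un : ∀ i y y', S i y → S i y' → y = y' := by
    rintro i y y' ⟨e, u, x, a1, a2, e1, c1, c2⟩ ⟨e', v, x', b1, b2, e1', d1, d2⟩
    obtain ⟨w, w1, w2, w3, w4⟩ := hm i u v a1 a2 b1 b2
    obtain ⟨t, et, ct⟩ := lift i0 w x0 h0 w1
    have k1 : Commute t x := hx0.tri (by rw [et, e1]; exact hc _ _ w3) ct c1
    have k2 : Commute t x' := hx0.tri (by rw [et, e1']; exact hc _ _ w4) ct d1
    exact (good w t et).uniq (e.trans e'.symm)
      ((good u x e1).tri (by rw [e, et]; exact (hc _ _ w2).symm) c2 k1)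
      ((good v x' e1').tri (by rw [e', et]; exact (hc _ _ w2).symm) d2 k2)
  choose s hS using ex
  have sl : ∀ i, π (s i) = z i := fun i => (hS i).1
  have sc : ∀ i j, adj i j → Commute (s i) (s j) := fun i j a => by
    obtain ⟨u, a1, a2, a3⟩ := hb i j a
    obtain ⟨x, e1, c1⟩ := lift i0 u x0 h0 a1
    obtain ⟨y, e2, c2⟩ := lift u i x e1 (hs _ _ a2)
    obtain ⟨y', e3, c3⟩ := lift u j x e1 (hs _ _ a3)
    rw [un i _ _ (hS i) ⟨e2, u, x, a1, a2, e1, c1, c2⟩, un j _ _ (hS j) ⟨e3, u, x, a1, a3, e1, c1, c3⟩]
    exact (good u x e1).tri (by rw [e2, e3]; exact hc _ _ a) c2 c3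
  have inv : ∀ k j, ∃ l, s k * s j * (s k)⁻¹ = s l := fun k j => by
    obtain ⟨σ, h1, h2⟩ := he (z k)
    let t : I → G := fun i => (s k)⁻¹ * s (σ i) * s k
    have step : ∀ i j, adj j i → t i = s i → t j = s j := fun i j a e =>
      (good i _ (sl i)).uniq (by simp only [t, map_mul, map_inv, sl, ← h1]; group) (by
        rw [← e]
        simpa only [inv_inv] using (commute_conj_iff (s k)⁻¹ _ _).2 (sc _ _ (h2 _ _ a))) (sc _ _ a)
    have e0 : t k = s k := by
      have : σ k = k := hi (by rw [← h1]; group)
      simp only [t, this]; group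
    obtain ⟨u, a1, a2, -⟩ := hb k k (hr k)
    obtain ⟨v, b1, b2, -⟩ := hb j j (hr j)
    have := step v j (hs _ _ b2) (step i0 v b1 (step u i0 (hs _ _ a1) (step k u a2 e0)))
    exact ⟨σ j, by rw [← this]; simp only [t]; group⟩
  let K := closure (Set.range s)
  have inv' : ∀ g ∈ K, ∀ j, ∃ l, g * s j * g⁻¹ = s l := fun g hg => by
    have hg' : g ∈ Submonoid.closure (Set.range s) := by
      rw [← SetLike.mem_coe, ← Subgroup.closure_toSubmonoid_of_finite]; exact hg
    clear hg
    induction hg' using Submonoid.closure_induction with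
    | mem x hx => obtain ⟨k, rfl⟩ := hx; exact inv k
    | one => exact fun j => ⟨j, by group⟩
    | mul x y _ _ hx hy =>
      intro j
      obtain ⟨l, e⟩ := hy j
      obtain ⟨m, e'⟩ := hx l
      exact ⟨m, by rw [← e', ← e]; group⟩
  have hK : K.map π = ⊤ := by
    rw [MonoidHom.map_closure, ← Set.range_comp, show π ∘ s = z from funext sl, hg]
  refine ⟨K, isComplement'_of_disjoint_and_mul_eq_univ ?_ ?_⟩
  · rw [disjoint_def]
    intro q hq hqK
    obtain ⟨l, e⟩ := inv' q hqK i0
    have : l = i0 := hi (by rw [← sl, ← e]; simp [MonoidHom.mem_ker.1 hq, sl])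
    exact good i0 _ (sl i0) q hq (mul_inv_eq_iff_eq_mul.1 (this ▸ e))
  · refine Set.eq_univ_of_forall fun g => ?_
    obtain ⟨k, hk, e⟩ : π g ∈ K.map π := hK ▸ mem_top _
    exact ⟨g * k⁻¹, by simp [MonoidHom.mem_ker, e], k, hk, by simp⟩

end Split

section Fix

variable {G : Type*} [Group G] {D : Set G} {V : Type*} [AddCommGroup V] [Module (ZMod 2) V]
  {ρ : G →* Module.End (ZMod 2) V}

theorem rho_fix {x : G} {v : V} (h : nn ρ x v = 0) : ρ x v = v := by
  rw [rho_eq]; linear_combination (norm := (apply c2; (try simp only [map_add, map_zero, Module.End.mul_apply, LinearMap.add_apply, Module.End.one_apply, LinearMap.zero_apply]); match_scalars <;> decide)) h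

/-- the centre of an affine plane subgroup -/
theorem NRep.fix_plane (h : NRep D ρ) {d a b : G} (hd : d ∈ D) (ha : a ∈ D) (hb : b ∈ D) (c1 : ¬ Commute d a)
    (c2' : ¬ Commute d b) (c3 : ¬ Commute a b) (c4 : ¬ Commute d (a * b * a)) {g : G}
    (hg : g = b * d * b * (a * b * a) * (d * a * d) * d) (k1 : ρ g * ρ d = ρ d * ρ g) (k2 : ρ g * ρ a = ρ a * ρ g)
    (k3 : ρ g * ρ b = ρ b * ρ g) {v : V} (hv : ρ g v = v) : nn ρ d v = 0 ∧ nn ρ a v = 0 ∧ nn ρ b v = 0 := by
  have cbd : ¬ Commute b d := fun c => c2' c.symm
  have dd := h.perp d hd d hd (Commute.refl d)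
  have e1 : ρ g * nn ρ d = nn ρ d * nn ρ b * nn ρ a * nn ρ d := by
    rw [hg, map_mul, map_mul, map_mul, rho_eq ρ d]
    linear_combination (norm := (apply c2; (try simp only [add_mul, mul_add, mul_assoc, one_mul, mul_one, zero_mul, mul_zero]); match_scalars <;> decide)) ρ (b * d * b) * ρ (a * b * a) * h.rho_third hd ha c1 + ρ (b * d * b) * h.rho_third ha hb c3 * nn ρ d +
      h.rho_third hb hd cbd * nn ρ a * nn ρ d + ρ (b * d * b) * ρ (a * b * a) * ρ (d * a * d) * dd
  have e2 := h.line d hd _ (h.tt.conj a ha b hb) c4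
  rw [h.third ha hb c3] at e2
  have e3 : nn ρ d * (ρ g + 1) = nn ρ d * nn ρ b * nn ρ a * nn ρ d + nn ρ d := by
    rw [rho_eq ρ d] at k1
    linear_combination (norm := (apply c2; (try simp only [add_mul, mul_add, mul_assoc, one_mul, mul_one, zero_mul, mul_zero]); match_scalars <;> decide)) k1 + e1
  have e4 : nn ρ d * nn ρ a * nn ρ b * (nn ρ d * (ρ g + 1)) + nn ρ d * (ρ g + 1) = nn ρ d := by
    rw [e3]
    linear_combination (norm := (apply c2; (try simp only [add_mul, mul_add, mul_assoc, one_mul, mul_one, zero_mul, mul_zero]); match_scalars <;> decide)) e2 + nn ρ d * nn ρ a * h.line b hb d hd cbd * nn ρ a * nn ρ d + nn ρ d * h.line a ha b hb c3 * nn ρ d +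
      h.line d hd b hb c2'
  have key : ∀ v, ρ g v = v → nn ρ d v = 0 := fun v hv => by
    have k : (ρ g + 1) v = 0 := by linear_combination (norm := (apply c2; (try simp only [map_add, map_zero, Module.End.mul_apply, LinearMap.add_apply, Module.End.one_apply, LinearMap.zero_apply]); match_scalars <;> decide)) hv
    rw [← e4]
    simp only [LinearMap.add_apply (nn ρ d * _ * _ * _), Module.End.mul_apply, k, map_zero, add_zero]
  have mv : ∀ x ∈ D, ¬ Commute d x → ρ g * ρ x = ρ x * ρ g → nn ρ x v = 0 := fun x hx c k => by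
    have m := h.tt.conj d hd x hx
    have := rho_nn ρ (sq h.tt.set m) d (ρ (d * x * d) v)
    rw [key (ρ (d * x * d) v) (by
      rw [← Module.End.mul_apply, map_mul, map_mul, ← mul_assoc, ← mul_assoc, k1, mul_assoc (ρ d), k, mul_assoc,
        mul_assoc, k1]
      simp only [Module.End.mul_apply, hv]), map_zero, cancel' h.tt.set hd, ← Module.End.mul_apply (ρ _),
      ← map_mul, sq h.tt.set m, map_one, braid h.tt.set hd hx c] at this
    simpa only [mul_assoc, cancel h.tt.set hd, cancel h.tt.set hx, Module.End.one_apply] using this.symm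
  exact ⟨key v hv, mv a ha c1 k2, mv b hb c2' k3⟩

theorem card_range_conj (g x : G) :
    Nat.card (LinearMap.range (nn ρ (g * x * g⁻¹))) = Nat.card (LinearMap.range (nn ρ x)) := by
  have i1 : ∀ v, ρ g⁻¹ (ρ g v) = v := fun v => by
    rw [← Module.End.mul_apply, ← map_mul, inv_mul_cancel, map_one, Module.End.one_apply]
  refine (Nat.card_congr (Equiv.ofBijective (fun u : LinearMap.range (nn ρ x) =>
    (⟨ρ g u, by
      obtain ⟨_, v, rfl⟩ := u
      exact ⟨ρ g v, by rw [nn_conj]; simp only [Module.End.mul_apply, i1]⟩⟩ :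
        LinearMap.range (nn ρ (g * x * g⁻¹)))) ⟨fun u v e => Subtype.ext ?_, ?_⟩)).symm
  · rw [← i1 u, ← i1 v, show ρ g u = ρ g v from congrArg Subtype.val e]
  · rintro ⟨_, v, rfl⟩
    exact ⟨⟨_, ρ g⁻¹ v, rfl⟩, Subtype.ext (LinearMap.congr_fun (nn_conj (ρ := ρ) g x) v).symm⟩

/-- five independent centres fill a module with five generators -/
theorem NRep.eq_zero_of_five [Finite V] (h : NRep D ρ) (hD : ∀ x ∈ D, ∀ y ∈ D, ∃ g, g * x * g⁻¹ = y)
    {p : Fin 5 → G} (hp : ∀ j, p j ∈ D) (hgen : ∀ v, (∀ j, nn ρ (p j) v = 0) → v = 0)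
    {d a b x y : G} (hd : d ∈ D) (ha : a ∈ D) (hb : b ∈ D) (hx : x ∈ D) (hy : y ∈ D) (c1 : ¬ Commute d a)
    (c2' : ¬ Commute d b) (c3 : ¬ Commute a b) (c4 : ¬ Commute d (a * b * a)) (c5 : ¬ Commute x y)
    (xd : Commute x d) (xa : Commute x a) (xb : Commute x b) (yd : Commute y d) (ya : Commute y a)
    (yb : Commute y b) {v : V} (vd : nn ρ d v = 0) (va : nn ρ a v = 0) (vb : nn ρ b v = 0) (vx : nn ρ x v = 0)
    (vy : nn ρ y v = 0) : v = 0 := by
  let R := fun x => LinearMap.range (nn ρ x)
  have cd : ∀ x ∈ D, Nat.card (R x) = Nat.card (R d) := fun x hx => by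
    obtain ⟨g, rfl⟩ := hD d hd x hx
    exact card_range_conj g d
  have h1 : Nat.card V ≤ Nat.card (R d) ^ 5 := by
    have := Nat.card_le_card_of_injective (fun (v : V) (j : Fin 5) => (⟨_, v, rfl⟩ : R (p j))) fun u v e => by
      have := hgen (u + v) fun j => by
        have := congrArg Subtype.val (congrFun e j)
        linear_combination (norm := (apply c2; (try simp only [map_add, map_zero, Module.End.mul_apply, LinearMap.add_apply, Module.End.one_apply, LinearMap.zero_apply]); match_scalars <;> decide)) this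
      linear_combination (norm := (apply c2; (try simp only [map_add, map_zero, Module.End.mul_apply, LinearMap.add_apply, Module.End.one_apply, LinearMap.zero_apply]); match_scalars <;> decide)) this
    simpa only [Nat.card_pi, cd _ (hp _), Finset.prod_const, Finset.card_univ, Fintype.card_fin] using this
  let f : R d × R a × R b × R x × R y → V := fun u => u.1.1 + u.2.1.1 + u.2.2.1.1 + u.2.2.2.1.1 + u.2.2.2.2.1
  have ind : ∀ u1 u2 u3 u4 u5 w, w = nn ρ d u1 + nn ρ a u2 + nn ρ b u3 + nn ρ x u4 + nn ρ y u5 →
      nn ρ d w = 0 → nn ρ a w = 0 → nn ρ b w = 0 → nn ρ x w = 0 → nn ρ y w = 0 →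
      nn ρ d u1 = 0 ∧ nn ρ a u2 = 0 ∧ nn ρ b u3 = 0 ∧ nn ρ x u4 = 0 ∧ nn ρ y u5 = 0 := by
    rintro u1 u2 u3 u4 u5 _ rfl e1 e2 e3 e4 e5
    simp only [map_add, h.P hd hd (Commute.refl _), h.P ha ha (Commute.refl _), h.P hb hb (Commute.refl _),
      h.P hx hx (Commute.refl _), h.P hy hy (Commute.refl _), h.P hx hd xd, h.P hx ha xa, h.P hx hb xb,
      h.P hy hd yd, h.P hy ha ya, h.P hy hb yb, h.P hd hx xd.symm, h.P ha hx xa.symm, h.P hb hx xb.symm,
      h.P hd hy yd.symm, h.P ha hy ya.symm, h.P hb hy yb.symm, add_zero, zero_add] at e1 e2 e3 e4 e5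
    have e := h.L hd (h.tt.conj a ha b hb) c4 (nn ρ a u2)
    rw [h.third' ha hb c3] at e
    have La := h.L ha hd (fun c => c1 c.symm) u2
    have Lb := h.L hb hd (fun c => c2' c.symm) u3
    have k : nn ρ d (nn ρ a u2) = 0 := by
      linear_combination (norm := (apply c2; (try simp only [map_add, map_zero, Module.End.mul_apply, LinearMap.add_apply, Module.End.one_apply, LinearMap.zero_apply]); match_scalars <;> decide)) e + h.L hd hb c2' (nn ρ a u2) + h.L hd ha c1 (nn ρ a u2) +
        DFunLike.congr_arg (nn ρ d * nn ρ a * nn ρ b) e1 + DFunLike.congr_arg (nn ρ d * nn ρ a) Lb +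
        DFunLike.congr_arg (nn ρ d * nn ρ b) La + DFunLike.congr_arg (nn ρ d) e2 + DFunLike.congr_arg (nn ρ d) e3 +
        h.L hd ha c1 u1 + h.L hd hb c2' u1
    have k2 : nn ρ a u2 = 0 := h.inj ha hd (fun c => c1 c.symm) k
    have k3 : nn ρ b u3 = 0 := h.inj hb hd (fun c => c2' c.symm) (by linear_combination (norm := (apply c2; (try simp only [map_add, map_zero, Module.End.mul_apply, LinearMap.add_apply, Module.End.one_apply, LinearMap.zero_apply]); match_scalars <;> decide)) e1 + k)
    exact ⟨h.inj hd ha c1 (by linear_combination (norm := (apply c2; (try simp only [map_add, map_zero, Module.End.mul_apply, LinearMap.add_apply, Module.End.one_apply, LinearMap.zero_apply]); match_scalars <;> decide)) e2 + DFunLike.congr_arg (nn ρ a) k3), k2, k3,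
      h.inj hx hy c5 e5, h.inj hy hx (fun c => c5 c.symm) e4⟩
  have hf : Function.Injective f := by
    rintro ⟨⟨_, u1, rfl⟩, ⟨_, u2, rfl⟩, ⟨_, u3, rfl⟩, ⟨_, u4, rfl⟩, ⟨_, u5, rfl⟩⟩
      ⟨⟨_, w1, rfl⟩, ⟨_, w2, rfl⟩, ⟨_, w3, rfl⟩, ⟨_, w4, rfl⟩, ⟨_, w5, rfl⟩⟩ e
    simp only [f] at e
    obtain ⟨k1, k2, k3, k4, k5⟩ := ind (u1 + w1) (u2 + w2) (u3 + w3) (u4 + w4) (u5 + w5) 0 (by linear_combination (norm := (apply c2; (try simp only [map_add, map_zero, Module.End.mul_apply, LinearMap.add_apply, Module.End.one_apply, LinearMap.zero_apply]); match_scalars <;> decide)) e)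
      (map_zero _) (map_zero _) (map_zero _) (map_zero _) (map_zero _)
    refine Prod.ext (Subtype.ext ?_) (Prod.ext (Subtype.ext ?_) (Prod.ext (Subtype.ext ?_)
      (Prod.ext (Subtype.ext ?_) (Subtype.ext ?_)))) <;> dsimp only
    exacts [by linear_combination (norm := (apply c2; (try simp only [map_add, map_zero, Module.End.mul_apply, LinearMap.add_apply, Module.End.one_apply, LinearMap.zero_apply]); match_scalars <;> decide)) k1, by linear_combination (norm := (apply c2; (try simp only [map_add, map_zero, Module.End.mul_apply, LinearMap.add_apply, Module.End.one_apply, LinearMap.zero_apply]); match_scalars <;> decide)) k2, by linear_combination (norm := (apply c2; (try simp only [map_add, map_zero, Module.End.mul_apply, LinearMap.add_apply, Module.End.one_apply, LinearMap.zero_apply]); match_scalars <;> decide)) k3, by linear_combination (norm := (apply c2; (try simp only [map_add, map_zero, Module.End.mul_apply, LinearMap.add_apply, Module.End.one_apply, LinearMap.zero_apply]); match_scalars <;> decide)) k4, by linear_combination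 (norm := (apply c2; (try simp only [map_add, map_zero, Module.End.mul_apply, LinearMap.add_apply, Module.End.one_apply, LinearMap.zero_apply]); match_scalars <;> decide)) k5]
  obtain ⟨⟨⟨_, u1, rfl⟩, ⟨_, u2, rfl⟩, ⟨_, u3, rfl⟩, ⟨_, u4, rfl⟩, ⟨_, u5, rfl⟩⟩, rfl⟩ :=
    (hf.bijective_of_nat_card_le (by
      simp only [Nat.card_prod, cd a ha, cd b hb, cd x hx, cd y hy]
      exact h1.trans_eq (by ring))).2 v
  obtain ⟨k1, k2, k3, k4, k5⟩ := ind u1 u2 u3 u4 u5 _ rfl vd va vb vx vy
  simp only [f, k1, k2, k3, k4, k5, add_zero]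

end Fix

namespace SU5

open Matrix CfsgLib.Unitary CfsgLib.Classical CfsgLib.Transv3 CfsgLib.FiType CfsgLib.Unitary.SU32 CfsgLib.Comput

/-- vectors -/
abbrev V5 : Type := Fin 5 → GF4

/-- a primitive cube root of unity -/
def om : GF4 := ⟨0, 1⟩

/-- field elements from numbers -/
def g4 (k : ℕ) : GF4 := ⟨if k % 2 = 0 then 0 else 1, if k / 2 % 2 = 0 then 0 else 1⟩

/-- vectors from numbers -/
def dec (c : ℕ) : V5 := ![g4 (c % 4), g4 (c / 4 % 4), g4 (c / 16 % 4), g4 (c / 64 % 4), g4 (c / 256 % 4)]

/-- numbers from field elements -/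
def e4 (x : GF4) : ℕ := x.re.val + 2 * x.im.val

/-- numbers from vectors -/
def enc (v : V5) : ℕ := e4 (v 0) + 4 * e4 (v 1) + 16 * e4 (v 2) + 64 * e4 (v 3) + 256 * e4 (v 4)

/-- the Hermitian form -/
def ip (u v : V5) : GF4 :=
  u 0 * (v 0 * v 0) + u 1 * (v 1 * v 1) + u 2 * (v 2 * v 2) + u 3 * (v 3 * v 3) + u 4 * (v 4 * v 4)

theorem herm_eq (u v : V5) : hermForm 5 GF4 2 u v = ip u v := by
  simp only [herm_def, Fin.sum_univ_five, pow_two, ip]

/-- transvections -/
def tr (p x : V5) : V5 := x + ip x p • p

theorem uT_tr (w : IsoV 5 GF4) (x : V5) : uT hGF4 w • x = tr w.1 x := by rw [uT_smul, herm_eq, tr]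

theorem dec_enc : ∀ a b c d e : GF4, enc ![a, b, c, d, e] < 1024 ∧ dec (enc ![a, b, c, d, e]) = ![a, b, c, d, e] := by
  decide +kernel

theorem exists_dec (v : V5) : ∃ c < 1024, dec c = v := by
  have : v = ![v 0, v 1, v 2, v 3, v 4] := by ext i : 1; fin_cases i <;> rfl
  exact this ▸ ⟨_, dec_enc _ _ _ _ _⟩

/-- entry of a packed table -/
def ent (T k i : ℕ) : ℕ := Nat.mod (Nat.shiftRight T (Nat.mul k i)) (Nat.pow 2 k)

/-- five generating centres -/
def gen (j : ℕ) : V5 := dec (ent 444568621080374 10 j)

/-- a search tree -/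
@[irreducible] def tT : ℕ := 0x29b98e2e53a7ac92682a7b488d13bab4c2e332370a6ef2ab20a4c328ba0a5dc1c464b1182baec6eba1bae4a0da2c9fc85c420710a8c31306c8c1a13064ac1822320a4d51ab70a6f9293a0a0e831b10d0a02ab98d1322b0948c243c90cb2422a70c88ff28394ae8631398ae84330ccb1262c494ac30303f4a9dc213f8c5e618b70a0f019b70aaf9287b8aaff20b68e0f628224f1562c55471543a6b4c8912c31482a332270a6af2aa208c482489ca59c1b464a9a62860890d224344a09a2bbfc858420610c8832343ccd0e23434618932220c18f2aa7066b928a10a98829a10ec602c83cb20e1c834cd30396e4d17e3260c88bf343bca8b93c3b4c5be3486ca4b9282ecc297302f4a99c212f8a5a628a70e0b029a706ab933b5cd16a30a68b16828124edd62b754a1512a5b4885133214826328568e66f3a920b19c209a0d00e219a0ae2430508b2fa2cbe48c9029170a05c30510e8431406c901a14064614922120a4551a9706679291a0a06832980f1b42b83cae0e1b8349024337fccdfe3a50cc87f332bcc879311988cac329c8c479301eca95a3c68cd1a2291f8f1a018970a070199706a79285b8aa7f20968ade828024a22519028c5121c74ca40d2c744cd902398c00002398484032a838a00422068a9263040888053140c441b288c06504184105054318f8c23d32038850a21434810f34ad4d2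b4220d0c530304c0b288304d8e603214dcc90e341acaa2b241a4660d28094c83939098a13d328c8a1233a0986217100f482111a8d06e5c290c0a0302c7b4adac233fc8cfe333f4a4372034867e728f98efa830f8084d420350b36c21fb883ed2c074a4da21374d18e3871c918c22710b37a32f40b37829314c5dd33ef487f13466c8c4e3466465d32b47c6d1e2b474cd1c2b48cb036334844d20287b46be7297b8ac702afa8a4f8283e0c8c2203f8d346213fc934428f50b1b2246c4c9e722374c9e130f489020313a4c5f1387ccb35039f68c3d93be54a8d62c70ca7a734704a18a20e80449410250905029eb8a3ad29608a49a2b53ccd4e335348d4c22610affa31668c0813475cf1d62a60887b130228ad5a3a2cca59319650333618230b3341cc2cb30a24c248c34386b4aba7396b8a0b52aea8a4b8282e0b1e8202f8cfc6212fca1a628e50ad72235c4e9a72a274cc2230e488c20212a485b12aee0906c347fc8399326a8d1fc20148676728d98a14a20d80445410150ccd02442c910a31508c45a3426cb09a3c264c36b32510e87829568a04134ffcc047325086d9430128cb5b3a1cc6553195502f3618130af341bc2caf0a23c245120285b46b67295b8a075336acd3c22cf04e842281f8c8442adb0acf838d50ab733216cf0a4244dcc9613bc74cf1c211a485712ade0c35f336fc8359325a8a8562ac08b0d62c3544c9429430a10c3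2c108dc429cb8a91d3140840191bd9caf661bd94872909cd888382b744d1502101480072847ca73118028d3b224ec4890f320d4c90930030eb1d2a024c033284acc705284b4d38e314b8a436114804120200e0c802280f8670b1acb0b16c20c5084201206caf582a074c7132909ca53f324b0a810284cca31f332aca319232a4b0e82afa4a2c830f40a8c130f58ce0632fbcaad331f64c3db32b78c0ef32b60c0e92a330c7de29f048e1223844ce1034a5ccf422bd0483c529b40acb22b2c4ecb0341dcd0762c1d4c6d738ba4a0c52c12483f12abc0cbcc28bbc6c8c28fe8cafd2033882e2138bc82e421320ee2c22b90abd828358a2fa30340c7e422b88b05c3137880dd32f4c732c21fb4d2be28bdcc0db2aea4a28839290ce4033c4ce88732ebcaa9321e64c39b32a78c0af34b3c80a91a230c79e33c1ccf0633c149038292c8a0b131a78c38534b6c92da30e20d2d830e38a4bb34d24c69731218c08532ad883b12aac0b2e628abc92e438ee8ee6a3023842a223cec87bc20ef0b0042cbcca4973825862ba2024087a412a88936039278a09d3ae4c6f2c29eb48e7e339f4c09b3ada4a75028d40b39438d58c84734814d20421d64c35b32978c06f33a3c80691a130c75e29d049212248448c38291c8a07131978834531940cb7032160b0f03bf2ccfca2bf24e657389a4cff62a9d8a3713ba9c90ce34334b0cc28de8ca7d201384262148b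c826421120ac0422990ab5828158627a20140876412988cb5e348ecc87b319c8ac1034eacb3aa2cea4c05b20090aa1521090ac6830c58880730088a20e1a028a6013880caec8210a8ab2423e64b3d839c04a30322ceca037242fc90be342f4c30532830870820c20d3cc2497cd25e2c9742b362498c526224984a3312a8c08b0c108bc800330ce8ca3d21cecf08029890a22431020ca3b1cf9cb3e61cf948fa4198f0623c29040cef4208c4a01d318c84a2f2b15cac562b15400001c85c72162c854c5e52a718c1e134e149384387b0c6d830b60cbdf30b78cbd931b7c87c729f60a3d830b00aafa3bc5ccf162bc548f143c5ccb172245c4c1ff2b6dcedb62abdca2cd2b62cad8a1b624a3ea2c53c8bf130bd0914c20f848f2a23ca46f282a7b867e518f9ca5c932b646be529fe886e239b94e9f730ffc61d33a7e8f3ba22fb8b3b820760b22a21760d2281b85c6e162b854e1a723d1ccf4623d148f44286b0a98b22a8ccb9f30a788b9921a7cc7872a648e398396d06aba2c4fcd13e1a650ce003aac4c28b337c4c1bf34f7cd3de32adca28d2cf8cd3e224f84a3aa2b73c8bb130ad0cdcc22ef0ce3e338f431003bdbca7a528e9c65893376caba53376446a23cfdca9b722a7ca19333decaf7a2aeb8af7828660a3b429660ce282b4ac8a683b4a4d3002ca4cc1612ca44c255285b0a94b2298ccb5f309788b592197c874729d60a358309006a7a2b4fccd3e1a550931433b3ca24b2bb34c57d33e7ccf9e2a9dcc64e309c8f1ca2c7248fa029db0ab71389d0aef020d84932a24ca42d002a5b8676518d9c6549329646b6529de846623bedca9772297c61532cabcd2ae32db8a77331dd0c37424cf4f33c2184487090a400a525335bcad6e2b5b4661623a7c890b2ba7472dc2a894a52b284a8890d304d0c600314d0d1b8308186a3c304c8a71f228c4d35a24d646919294e8a91f31c58620d2cbdca507218cc832a08400632c09400936431438810d29c88c63a318f4c23f32ce891842cdcca11523fc4a93123a8c4ea223a84ab231b54cad52184788a121aca0a334294600000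

/-- the non-isotropic points -/
@[irreducible] def tW : ℕ := 0xff7f9fd7edfa7e5f77d9f57d0f13c1ef7b9ed7adea7a5e7799e5790e1381df779dd76dda765d7759d5750d1341cd331c9321c5311c3709c16fdbe6f5bb6e9b96ddb66d5b42c4b06bdae6b5ab6a9a969da6695a4284a067d9e6759b6699965d9665594244906348c624886148460d826057f5f97d5ed7a5e5775d9755d0711c16f5b96d5ad6a5a56759965590611815f5795d56d5a5655755955550511414d131491214511143509414f43c4e4384d4344cd324c52d0b1290a12509123489214741c464184541444d124451003d0e4350b4290941d064150400400500

/-- the point of a vector -/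
@[irreducible] def tC : ℕ := 0xcd6726bc00cde716b800cda736b4000000000334cee6f6b000cf66e6ac00cf2706a800000000026dce2756a400cea746a000ce67669c0000000001a60000000333000000026c00000001a5cca6b69000d366668c00d3e6568800d3a6768400000000034cd4e6368000d566267c00d5264678000000000261d426967400d4a6867000d466a66c00000000019a000000034b00000002600000000199d2a5f66000d067e65c00d0e7d65800d0a7f654000000000340d1e7b65000d267a64c00d227c648000000000279d128164400d1a8064000d168263c00000000018e000000033f0000000278000000018dcfa7763000000000032d000000025c000000018bcb25b628000000000331000000025a0000000189cc25962000000000032f000000025e0000000187cba5d61800ca65761400cae5661000caa5860c000000000300e3e4560800e464460400e424660000000000038ee56425fc00e5e415f800e5a435f4000000000240e4a485f000e52475ec00e4e495e8000000000179000000038d000000023f0000000178e323e5dc00e9e395d800ea6385d400ea23a5d00000000003a6eb6365cc00ebe355c800eba375c4000000000234eaa3c5c000eb23b5bc00eae3d5b800000000016d00000003a50000000233000000016ce92325ac00e6e515a800e76505a400e72525a000000000039ae864e5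9c00e8e4d59800e8a4f59400000000024ce7a5459000e825358c00e7e555880000000001610000000399000000024b0000000160e624a57c000000000387000000022f000000015ee1a2e57400000000038b000000022d000000015ce2a2c56c0000000003890000000231000000015ae223056400e0e2a56000e162955c00e122b558000000000200d8a9f55400d929e55000d8ea054c000000000361da29c54800daa9b54400da69d54000000000029ad96a253c00d9ea153800d9aa353400000000014c00000003600000000299000000014bd7e9852800dea9352400df29252000dee9451c000000000379e029051800e0a8f51400e069151000000000028edf69650c00dfe9550800dfa975040000000001400000000378000000028d000000013fdde8c4f800dbaab4f400dc2aa4f000dbeac4ec00000000036ddd2a84e800ddaa74e400dd6a94e00000000002a6dc6ae4dc00dcead4d800dcaaf4d4000000000134000000036c00000002a50000000133daea44c800000000035a00000002890000000131d66884c000000000035e0000000287000000012fd76864b800000000035c000000028b000000012dd6e8a4b000d5a844ac00d62834a800d5e854a40000000001000000000312000000021d0000000128c461c49c000000000316000000021b0000000126c561a494000000000314000000021f0000000124c4e1e48c00c3a1848800c421748400c3e1948000000000030d00000003240000000214000000011fc8e134780000000003280000000212000000011dc9e114700000000003260000000216000000011bc961546800c820f46400c8a0e46000c861045c00000000020d000000031b00000002260000000116c6a2545400000000031f00000002240000000114c7a2344c00000000031d00000002280000000112c722744400c5e2144000c662043c00c622243800000000010dc120843000c1a0742c00c1609428000000000303c2a0542400c320442000c2e0641c000000000203c1e0b41800c260a41400c220c410000000000103000000030200000002020000000102c060140400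

/-- orthogonality masks -/
@[irreducible] def tM : ℕ := 0x85022650020113028444c254022241404440848880a05088142820840a084230830a091844224210064842102a040c8400020605018986a100c4c280c8000d1901405088420a408421204188b04290c450201410608288102a050005680280110444a1015a22488093004212444085028010c00140408231e0843118e0403800c10710202a010a810800851402328c6041194a01050018a085008500a040a2005042018a891028c561012240122450805080502200002828044798888223d403080031610a000071c0e000c0e000181e6038000f000cc018c0180006007490920a8a4800292501248092801405510200800a007000000578000037fc800003fe401800af0000000c500850226204449130284241414022244422204240a028250881408230c0a084030420a091864321080302108402a040c00189a06050068282100c4cc864000681400a450884208188c21204305020290c44140a083048100562a050080444a8011021088015a22492498021044010c8502800023194040860a04043118c381c006090208102a010a802328851400c4a020411950482800c450040a8500a02018a850420092101028c552291200910802205080500044782828018940088223f098400188a00e000071c00c01e0e0001e0000f8000f0c0600c600006920007490a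89252480028100164809280402a881000a00000700057ffc800003000018003fe400005780000c226500850200284449134262241414004509111000a081428250808084230c0a031184420a0a420c9084021040c8402a000050189a06068c4c282100c81a320001408420a450808204188c21304c4502029014c1050408105000562a080110444a80212224880158928424c0044028010c8500040823194060918e04043039820e00102010a8102a0801402328850c5194a020410431414005000a040a8502042018a850090c561010292224489010800502205080028044782818a23d4008830862c2000a001c0e000070c00181e0e06000f000f800c18030060006490920007a880292524801092801648004040154400a000000007578037fc800003fe40180000000002bc00c0a20a20a2c0a042042040d2112112110950080402622001001001c381c01c01c120710710710608040203c04812812812309421421424304204204212440201028c200100100133f027027022400e00e00e21020100823845065065060c8280280283108808808824410080431120050050050f8e00e00e04838038038018008040220740010010015612412412400524924924aa404020132480010010015549149149155092092092002020100a928003003003fca4824824800a482482480080100806498500889050114281132801008981422261240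848880a028246110890a8440a1410420504211841810064842108403130a032150206420001030280c4c34000d1901400a431140805284421052042109020c458210608288100568892202495028002b40140088222509004212444010c4638100e428140086000a0204118f0400c107102081046528041150085408400428a01194630018a0850040a31584048c28050205100282100c5448401224508022088f500c228402811000014140223cc40031610a00e0003c003300038e070006070000c0f30018c018000692024a00501003a4849054524001492809510200800a000ff9006000038000002bc00001bfe400af0000000c050500889112804281131022248981421222204240a01082824619094128440a0411860504201921080302100a084031332420150206000c4d0302803464000681404080a431105052284421040c46109021820a083048102200568892482b15028040222540088108498021044081010c4630e08642814000118ca02043041c0060902028081046541408150085401194428a006282800c450084040a31548a05428050100c5428210048912009108050022088fc211028402800223c141400c58400188a00003e0003c307000038e00600f070000f00600c60000600592024a01490003a485449292400140802a881000a006000ff9000000038002bffe400001800005780000c889050500111132804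2810014222489a1309111000a046110828290c0a141284040421186050180c908402103130a084032206420150000280c4d030341a320001403114080a405421052284041020c4610982c10504081088922005624a8002b150400882225401088424c0044046381010c0e14008642800204118ca0305820e00102046528081041085408150400a0119442862314140050031584040a48850205428102100c5428048244890108088f500220c202811028400140223c140c462c2000a0003c003e00300e070000386000c0f070301803006000624a00592001248490003d4401492924008040154400aff900600000000000003abc01bfe40000000002bc00c844844844250510510516050210210206900804026221c41c41c418000800800e1c0e00e00e0908040203c0410810810849409409409184a10a10a121840201028c20380380388400080080099f81381381120201008238422022022091283283283064140140141881008043112e00e00e006000280280287c700700702400804022074492492492a9000800800ab092092092002040201324824824824800800800800aaa48a48a48aa8020100a92892092092002001801801fe524124124004010080649822605088984a8044482808a1408994008040848880a081410846106141230884485422050a0820100648421040c0a03130d420189850190a8103210000000d190140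84240831160852188a040294221082902010608288105002208894202b444910124a8140015a010042124440280810463c1086231c08072140a004300000c107102010a28046518c08232940208a8042a042010018a085000a08403151220518ac2024614028102880401224508005050088f31110447a80611420140880000031610a001c000303cc070001e00198001c7038003018c018000649000524a0249012500280801d242482a3510200800a000006ff9000007fc80300001c0000015eaf0000000c889226050848282804448894021408988022204240a046181410806084141230c84a0942205021210803021031340c0a00d050420189992100a8103000640006814031184240860a04052188828291422108200a083048108895002204211002b444924158a81402004980210440463280810c1408086231870432140a00001c0060902046510a28018940408232a0a040a8042a0082800c45003150a08401242020518aa4502a14028080912009108088f05050031280110447e10881420140018400188a0003c1c0003c0001f0001e18380001c70030600c60000624a49000502002c9012500a48001d242a202a881000aff9000006000030007fc80000001c0015e005780000c05088922684c448282800888994021408109111000a010846181406230884141486050a09420200c908402100a031340c0d189850420191032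100a80001a3200014040831184260988a0405202a10829142020c1050408102208895004244491002b125400158a82008424c00440810463280c1231c08086070a0043214001820e00102028046510a18a3294040820842a040a820031414005008403150a01218ac2020524428102a14080244890108050088f05031447a801106101408814200062c2000a0000303c1c0c001e001f0018070380001c31803006000600524a49002125002c9000924248001ea2040154400a006ff9000007fc80300000000000001d5e00002bc00c4084084081a42242242212828828828b030080402622038038038240e20e20e20c00040040070e8040203c042842842848608408408424a04a04a048c240201028c2e04e04e044801c01c01c420004004004ce2010082384050050050621101101104894194194183210080431121c01c01c0907007007003000140140143e080402207424824824800a49249249548004004005580402013248922922922aa12412412400400400400554020100a9284904904900149049049001000c00c00ff201008064980a24088448005120442240028902211201811a1286230010381c44000081c0e22000040e07110187240c1c0581228410820409142084102048a104208061862488c3001e0403810000f0201c0800078100e0406748420385506050220082830281100414181408802019624891130051c0e0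0040028e0700020014703800101f903000750012484920200092424901000492124808ac00d4924900192224801000c9112400800648892004aaaa00492900349092000801a4849000400d24248003f9010104998440a240880422051204402110289022004ac08d06231c4001038400e200081c2007100040e10030c3921c0510881228420084409142100422048a10809230c308c3038001e041001c000f020800e0007810410833a403852205060500811028302804088141814021220cb11113e000051c0047000028e002380001470010c00fc800754920012480224900092401124800492009525600524924800192201124000c9100892000648804015555092992000349000c90001a4800648000d2400204fc8084994088440a28020442205140102211028a0034256046230381c40014001c0e2000a000e071000500481861dc0528410881220142084409100a10422048810c491848c3e040380011070201c0008838100e000440908419c3850502205060802811028304014088141820c4910651131c0e00005040e070000282070380001411206007c075248492001021242490008109212480040801a92b12499222480010149112400080a488920004055400aa892949092000300a4849000180524248000c0202027e4499000000000ff8000000007fc000000003fe0000003fff0500500504a02802802825014014014128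944a2530a11081081086108408408430842042042184c26130aa110a00a00a0c08500500506042802802830381c0e0654140840840892204204204491021021022492492492a11220220220191101101100c88808808806432190ca54181081081030c08408408186042042040c261309870a128028028026140140140130a00a00a00984c261325418408408408542042042042a102102102150a8542b0a15005005000ca8028028006540140140032190c866a110030030030380180180181c00c00c00c0e070381e00f00500500554002802802aa001401401550a8542a200f006006006a800300300354001801801aa150a854200f0000000000000000000000000000000001ffffffffff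

/-- the non-isotropic points -/
def W (i : ℕ) : V5 := dec (ent tW 10 i)

theorem gen_iso : ∀ j < 5, gen j ≠ 0 ∧ ip (gen j) (gen j) = 0 := by decide +kernel

theorem chk_T : ∀ c < 1024, c = 0 ∨ c = 822 ∨ c = 256 ∨ (ent tT 18 c % 1024 ≠ 0 ∧ ent tT 18 c / 1024 % 8 < 5 ∧
    ent tT 18 (ent tT 18 c % 1024) / 8192 < ent tT 18 c / 8192 ∧
    dec c = tr (gen (ent tT 18 c / 1024 % 8)) (dec (ent tT 18 c % 1024))) := fun c hc => by
  have := allLt_sound (p := fun c => force (ent tT 18 c) fun e => force (e % 1024) fun p => force (e / 1024 % 8)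
    fun j => decide (c = 0 ∨ c = 822 ∨ c = 256 ∨ (p ≠ 0 ∧ j < 5 ∧ ent tT 18 p / 8192 < e / 8192 ∧
      dec c = tr (gen j) (dec p)))) (n := 1024) (by decide +kernel) c hc
  simpa only [force_eq, decide_eq_true_eq] using this

theorem chk_C : ∀ c < 1024, ip (dec c) (dec c) = 1 → ent tC 10 c % 256 < 176 ∧
    dec c = g4 (ent tC 10 c / 256) • W (ent tC 10 c % 256) := fun c hc => by
  have := allLt_sound (p := fun c => force (ent tC 10 c) fun e => force (ent tW 10 (e % 256)) fun w =>
    decide (ip (dec c) (dec c) = 1 → e % 256 < 176 ∧ dec c = g4 (e / 256) • dec w)) (n := 1024)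
    (by decide +kernel) c hc
  simpa only [force_eq, decide_eq_true_eq, W] using this

theorem chk_W : ∀ i < 176, ip (W i) (W i) = 1 := by decide +kernel

/-- products of coded elements -/
def mN (x y : ℕ) : ℕ := ent 1826141184 2 (Nat.add (Nat.mul 4 (Nat.mod x 4)) (Nat.mod y 4))

/-- the form on coded vectors -/
def ipN (a b : ℕ) : ℕ :=
  Nat.xor (Nat.xor (Nat.xor (Nat.xor (mN a b) (mN (Nat.div a 4) (Nat.div b 4))) (mN (Nat.div a 16) (Nat.div b 16)))
    (mN (Nat.div a 64) (Nat.div b 64))) (mN (Nat.div a 256) (Nat.div b 256))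

set_option synthInstance.maxSize 1000 in
theorem ip_dec (a b : ℕ) : ip (dec a) (dec b) = 0 ↔ ipN a b = 0 := by
  have h1 : ∀ x < 4, ∀ y < 4, g4 x * (g4 y * g4 y) = g4 (ent 1826141184 2 (4 * x + y)) := by decide
  have h2 : ∀ x y, g4 (x % 4) * (g4 (y % 4) * g4 (y % 4)) = g4 (mN x y) := fun x y =>
    h1 _ (Nat.mod_lt _ (by norm_num)) _ (Nat.mod_lt _ (by norm_num))
  have h3 : ∀ x y, mN x y < 4 := fun x y => Nat.mod_lt _ (by norm_num)
  have h4 : ∀ a < 4, ∀ b < 4, ∀ c < 4, ∀ d < 4, ∀ e < 4,
      g4 a + g4 b + g4 c + g4 d + g4 e = 0 ↔ a ^^^ b ^^^ c ^^^ d ^^^ e = 0 := by decide +kernel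
  simp only [ip, dec, Matrix.cons_val, h2]
  exact h4 _ (h3 _ _) _ (h3 _ _) _ (h3 _ _) _ (h3 _ _) _ (h3 _ _)

theorem chk_M : ∀ i < 176, ∀ j < 176,
    ((ent tM 176 i).testBit j = true ↔ ipN (ent tW 10 i) (ent tW 10 j) = 0 ∨ i = j) := fun i hi j hj => by
  have := allLt_sound (p := fun i => force (ent tM 176 i) fun m => force (ent tW 10 i) fun a => allLt (fun j =>
    force (ent tW 10 j) fun b => m.testBit j == (Nat.beq (ipN a b) 0 || Nat.beq i j)) 176) (n := 176)
    (by decide +kernel) i hi
  simp only [force_eq] at this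
  have := allLt_sound this j hj
  rw [beq_iff_eq] at this
  rw [this, Bool.or_eq_true, Nat.beq_eq, Nat.beq_eq]

theorem chk_I : ∀ j < 176, ∀ a : GF4, a ≠ 0 → ent tC 10 (enc (a • W j)) % 256 = j := by decide +kernel

theorem chk_b : ∀ i < 176, ∀ j < 176, (ent tM 176 i).testBit j = true →
    ent tM 176 0 &&& ent tM 176 i &&& ent tM 176 j ≠ 0 := fun i hi j hj h => by
  have := allLt_sound (p := fun i => force (ent tM 176 i) fun m => force (ent tM 176 0 &&& m) fun m' => allLt (fun j =>
    !m.testBit j || !Nat.beq (Nat.land m' (ent tM 176 j)) 0) 176) (n := 176) (by decide +kernel) i hi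
  simp only [force_eq] at this
  have := allLt_sound this j hj
  simp only [h, Bool.not_true, Bool.false_or, Bool.not_eq_true'] at this
  exact Nat.ne_of_beq_eq_false this

theorem chk_m : ∀ y < 176, ∀ u < 41, (ent tM 176 y).testBit u = true → ∀ v < 41, (ent tM 176 y).testBit v = true →
    ent tM 176 0 &&& ent tM 176 y &&& ent tM 176 u &&& ent tM 176 v ≠ 0 := fun y hy u hu h v hv h' => by
  have := allLt_sound (p := fun y => force (ent tM 176 y) fun m => allLt (fun u => !m.testBit u ||
    force (ent tM 176 0 &&& m &&& ent tM 176 u) fun m' => allLt (fun v => !m.testBit v ||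
      !Nat.beq (Nat.land m' (ent tM 176 v)) 0) 41) 41) (n := 176) (by decide +kernel) y hy
  simp only [force_eq] at this
  have := allLt_sound this u hu
  simp only [h, Bool.not_true, Bool.false_or] at this
  have := allLt_sound this v hv
  simp only [h', Bool.not_true, Bool.false_or, Bool.not_eq_true'] at this
  exact Nat.ne_of_beq_eq_false this

theorem chk_0 : ent tM 176 0 = 2 ^ 41 - 1 ∧ W 0 = dec 256 ∧ gen 0 = dec 822 := by decide +kernel

theorem om_facts : om * (om * om) = 1 ∧ om * om + (om * om) ^ 2 + om * om * (om * om) ^ 2 * 1 = 0 ∧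
    om ^ 5 * (1 + om * om * 1) = 1 ∧ om * om ^ 2 = 1 := by decide

/-- a scalar multiple of a reflection -/
noncomputable def zS (w : V5) (hw : hermForm 5 GF4 2 w w = 1) : SU 5 GF4 2 :=
  mkSU (om • unitaryTransvection 5 2 w (om * om))
    (by rw [det_smul, det_trans, hw, Fintype.card_fin]; exact om_facts.2.2.1) fun u v => by
    rw [smul_mulVec, smul_mulVec, herm_smul_left, herm_smul_right, trans_pres hGF4 (by rw [hw]; exact om_facts.2.1),
      ← mul_assoc, om_facts.2.2.2, one_mul]

theorem zS_smul (w : V5) (hw : hermForm 5 GF4 2 w w = 1) (x : V5) :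
    zS w hw • x = om • (x + (om * om * hermForm 5 GF4 2 x w) • w) := by
  rw [su_smul_def, zS, coe_mkSU, smul_mulVec, trans_mulVec]

theorem conj_zS (g : SU 5 GF4 2) {w w' : V5} (hw : hermForm 5 GF4 2 w w = 1) (hw' : hermForm 5 GF4 2 w' w' = 1)
    {a : GF4} (e : g • w = a • w') : g * zS w hw * g⁻¹ = zS w' hw' := su_ext fun x => by
  have h1 : a * a ^ 2 = 1 := by
    rw [← herm_su_smul g, e, herm_smul_left, herm_smul_right, hw', mul_one] at hw
    exact hw
  rw [mul_smul, mul_smul, zS_smul, zS_smul, smul_comm g, smul_add, smul_inv_smul, smul_comm g, ← herm_su_smul g,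
    smul_inv_smul, e, herm_smul_right, smul_smul]
  exact congrArg (fun t => om • (x + t • w')) (by linear_combination om * om * hermForm 5 GF4 2 x w' * h1)

theorem commute_zS {w w' : V5} (hw : hermForm 5 GF4 2 w w = 1) (hw' : hermForm 5 GF4 2 w' w' = 1)
    (h : hermForm 5 GF4 2 w' w = 0) : Commute (zS w hw) (zS w' hw') :=
  mul_inv_eq_iff_eq_mul.1 (conj_zS _ hw' hw' (a := om) (by rw [zS_smul, h, mul_zero, zero_smul, add_zero]))

theorem hW (i : Fin 176) : hermForm 5 GF4 2 (W i) (W i) = 1 := (herm_eq _ _).trans (chk_W i i.2)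

/-- the family -/
noncomputable def zI (i : Fin 176) : SU 5 GF4 2 := zS (W i) (hW i)

/-- generators -/
noncomputable def tau (j : Fin 5) : SU 5 GF4 2 :=
  uT hGF4 ⟨gen j, (gen_iso j j.2).1, (herm_eq _ _).trans (gen_iso j j.2).2⟩

theorem orbit (v : V5) (hv : v ≠ 0) : ∃ k ∈ closure (Set.range tau), v = k • gen 0 ∨ v = k • W 0 := by
  obtain ⟨c, hc, rfl⟩ := exists_dec v
  have h0 : c ≠ 0 := by rintro rfl; exact hv (by decide)
  clear hv
  induction h : ent tT 18 c / 8192 using Nat.strong_induction_on generalizing c with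
  | _ m ih =>
    rcases chk_T c hc with e | rfl | rfl | ⟨e1, e2, e3, e4⟩
    · exact absurd e h0
    · exact ⟨1, one_mem _, Or.inl (by rw [one_smul, chk_0.2.2])⟩
    · exact ⟨1, one_mem _, Or.inr (by rw [one_smul, chk_0.2.1])⟩
    obtain ⟨k, hk, e⟩ := ih _ (h ▸ e3) _ (Nat.mod_lt _ (by norm_num)) e1 rfl
    refine ⟨tau ⟨_, e2⟩ * k, mul_mem (subset_closure ⟨_, rfl⟩) hk, ?_⟩
    rw [e4, mul_smul, mul_smul, tau, uT_tr, uT_tr]
    exact e.imp (congrArg _) (congrArg _)

theorem closure_tau : closure (Set.range tau) = ⊤ := by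
  refine top_unique ((su_three hGF4 (n := 5) (by norm_num)).2.2 ▸ (closure_le _).2 ?_)
  rintro _ ⟨w, rfl⟩
  obtain ⟨k, hk, e | e⟩ := orbit w.1 w.2.1
  · have := conj_uT hGF4 k ⟨gen 0, (gen_iso 0 (by norm_num)).1, (herm_eq _ _).trans (gen_iso 0 (by norm_num)).2⟩
    rw [show w = ⟨k • gen 0, e ▸ w.2⟩ from Subtype.ext e, ← this]
    exact mul_mem (mul_mem hk (subset_closure ⟨0, rfl⟩)) (inv_mem hk)
  · have := w.2.2
    rw [e, herm_su_smul] at this
    exact absurd ((hW 0).symm.trans this) one_ne_zero

theorem cover {v : V5} (hv : hermForm 5 GF4 2 v v = 1) : ∃ (i : Fin 176) (a : GF4), v = a • W i := by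
  obtain ⟨c, hc, rfl⟩ := exists_dec v
  obtain ⟨h1, h2⟩ := chk_C c hc ((herm_eq _ _).symm.trans hv)
  exact ⟨⟨_, h1⟩, _, h2⟩

/-- adjacency -/
def adj (i j : Fin 176) : Prop := hermForm 5 GF4 2 (W i) (W j) = 0 ∨ i = j

theorem adj_iff (i j : Fin 176) : adj i j ↔ (ent tM 176 i).testBit j = true := by
  rw [chk_M i i.2 j j.2, adj, herm_eq, W, W, ip_dec, Fin.ext_iff]

theorem adj_symm (i j : Fin 176) (h : adj i j) : adj j i := h.imp (herm_eq_zero_comm hGF4).1 Eq.symm

theorem exists_bit {m : ℕ} (h : ent tM 176 0 &&& m ≠ 0) : ∃ u : Fin 176, adj u 0 ∧ m.testBit u = true := by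
  obtain ⟨u, hu⟩ := Nat.exists_testBit_of_ne_zero h
  rw [Nat.testBit_and, Bool.and_eq_true] at hu
  have : u < 41 := by
    have := hu.1
    rw [chk_0.1, Nat.testBit_two_pow_sub_one] at this
    simpa using this
  exact ⟨⟨u, by omega⟩, adj_symm _ _ ((adj_iff 0 _).2 hu.1), hu.2⟩

theorem su_ext' {g h : SU 5 GF4 2} (H : ∀ i, g • (Pi.single i 1 : V5) = h • (Pi.single i 1 : V5)) : g = h :=
  Subtype.ext (Subtype.ext (Matrix.ext fun i j => by
    simpa only [su_smul_def, mulVec_single_one, col_apply] using congrFun (H j) i))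

/-- transvections from codes -/
noncomputable def tc (c : ℕ) (h : dec c ≠ 0 ∧ ip (dec c) (dec c) = 0 := by decide +kernel) : SU 5 GF4 2 :=
  uT hGF4 ⟨dec c, h.1, (herm_eq _ _).trans h.2⟩

theorem tc_smul (c : ℕ) (h) (x : V5) : tc c h • x = tr (dec c) x := uT_tr _ _

theorem tc_conj {a b : ℕ} {ha hb} (c : ℕ) (hc : dec c ≠ 0 ∧ ip (dec c) (dec c) = 0 := by decide +kernel)
    (e : tr (dec a) (dec b) = dec c := by decide +kernel) : tc a ha * tc b hb * tc a ha = tc c hc := by
  have := conj_uT hGF4 (tc a ha) ⟨dec b, hb.1, (herm_eq _ _).trans hb.2⟩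
  rw [show (tc a ha)⁻¹ = tc a ha from uT_inv _ _] at this
  exact this.trans (congrArg _ (Subtype.ext ((tc_smul _ _ _).trans e)))

theorem tc_comm {a b : ℕ} {ha hb} (e : tr (dec a) (dec b) = dec b := by decide +kernel) : Commute (tc a ha) (tc b hb) :=
  commute_of_conj_eq (uT_mul_self _ _) (tc_conj b hb e)

theorem tc_ncomm {a b : ℕ} {ha hb} (c : Commute (tc a ha) (tc b hb))
    (e : tr (dec a) (tr (dec b) (dec a)) ≠ tr (dec b) (tr (dec a) (dec a)) := by decide +kernel) : False := e (by
  rw [← tc_smul b hb, ← tc_smul a ha, ← tc_smul a ha, ← tc_smul b hb, ← mul_smul, ← mul_smul, c.eq])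

theorem word_g : tc 9 * tc 5 * tc 9 * (tc 20 * tc 9 * tc 20) * (tc 5 * tc 20 * tc 5) * tc 5 =
    tc 11 * tc 33 * tc 17 * tc 5 := by
  rw [tc_conj 11, tc_conj 33, tc_conj 17]

theorem word_c (c : ℕ) (h) (e : tr (dec 11) (tr (dec 33) (tr (dec 17) (tr (dec 5) (dec c)))) = om • dec c) :
    Commute (tc 11 * tc 33 * tc 17 * tc 5) (tc c h) :=
  mul_inv_eq_iff_eq_mul.1 ((conj_uT hGF4 _ _).trans (uT_eq_of_smul hGF4 (a := om) (by
    simp only [mul_smul, tc_smul, e])))

theorem word_z : tc 11 * tc 33 * tc 17 * tc 5 * (tc 320 * tc 576) = zI 0 := su_ext' fun i => by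
  simp only [mul_smul, tc_smul, zI, zS_smul, herm_eq]
  revert i
  decide +kernel

/-- **An extension of a 2-group by `SU₅(2)` generated by 3-transpositions splits.** -/
theorem exists_complement {G : Type*} [Group G] [Finite G] {D : Set G} (hD : IsThreeTranspositionClass D)
    (hZ : center G = ⊥) {Q : Subgroup G} [Q.Normal] (hQ : ∀ x ∈ Q, x * x = 1) (π : G →* SU 5 GF4 2)
    (hπ : Function.Surjective π) (hk : π.ker = Q) : ∃ K : Subgroup G, Q.IsComplement' K := by
  have hG := group_of_class hD
  have s := hD.1
  have hc := su_equiv_psu (n := 5) hGF4 (by norm_num) (by norm_num)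
  have mi : ∀ g h : SU 5 GF4 2, (g : PSU 5 GF4 2) = h → g = h := fun g h e => by
    have := QuotientGroup.eq.1 e
    rwa [hc, mem_bot, inv_mul_eq_one] at this
  have ker : ∀ x, π x = 1 ↔ x ∈ Q := fun x => by rw [← hk, MonoidHom.mem_ker]
  have cl := class_map hD ((QuotientGroup.mk' (center _)).comp π) ((QuotientGroup.mk'_surjective _).comp hπ)
    fun d hd e => not_mem_of_two hD (two_of_center hD hZ) (two_group hQ) hd ((ker d).1 (mi _ _ e))
  have cr := eq_range_pT hGF4 (by norm_num) cl.1 (group_of_class cl).2.1 (cl.2.1.imp fun _ h => h.1)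
  have lift : ∀ w, ∃ d ∈ D, π d = uT hGF4 w := fun w => by
    obtain ⟨d, hd, e⟩ : pT hGF4 w ∈ ((QuotientGroup.mk' (center _)).comp π) '' D := cr ▸ ⟨w, rfl⟩
    exact ⟨d, hd, mi _ _ e⟩
  have cm : ∀ a ∈ D, ∀ b ∈ D, Commute (π a) (π b) → Commute a b := fun a ha b hb c =>
    (commute_mk_iff s (two_group hQ) ha hb).1 (QuotientGroup.eq.2 ((ker _).1 (by
      rw [map_mul, map_inv, map_mul, map_mul, c.eq, inv_mul_cancel])) : ((a * b : G) : G ⧸ Q) = (b * a : G))
  have R := nrep_rho (hW := hQ) s hG.2.1
  have rc : ∀ g h : G, Commute (π g) (π h) → rho Q hQ g * rho Q hQ h = rho Q hQ h * rho Q hQ g := fun g h c => by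
    rw [← map_mul, ← map_mul, ← mul_one (rho Q hQ (h * g)),
      ← rho_of_mem (hW := hQ) ((ker ((h * g)⁻¹ * (g * h))).1 (by
        rw [map_mul, map_inv, map_mul, map_mul, c.eq, inv_mul_cancel])), ← map_mul, mul_inv_cancel_left]
  have lift' : ∀ c h, ∃ d ∈ D, π d = tc c h := fun c h => lift ⟨dec c, h.1, (herm_eq _ _).trans h.2⟩
  obtain ⟨d, hd, ed⟩ := lift' 5 (by decide +kernel)
  obtain ⟨a, ha, ea⟩ := lift' 20 (by decide +kernel)
  obtain ⟨b, hb, eb⟩ := lift' 9 (by decide +kernel)
  obtain ⟨x, hx, ex⟩ := lift' 320 (by decide +kernel)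
  obtain ⟨y, hy, ey⟩ := lift' 576 (by decide +kernel)
  choose p hp ep using fun j : Fin 5 => lift ⟨gen j, (gen_iso j j.2).1, (herm_eq _ _).trans (gen_iso j j.2).2⟩
  let g := b * d * b * (a * b * a) * (d * a * d) * d
  have eg : π g = tc 11 * tc 33 * tc 17 * tc 5 := by simp only [g, map_mul, ed, ea, eb, word_g]
  have c1 : ¬ Commute d a := fun c => tc_ncomm (a := 5) (b := 20) (ed ▸ ea ▸ c.map π)
  have c2' : ¬ Commute d b := fun c => tc_ncomm (a := 5) (b := 9) (ed ▸ eb ▸ c.map π)
  have c3 : ¬ Commute a b := fun c => tc_ncomm (a := 20) (b := 9) (ea ▸ eb ▸ c.map π)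
  have c4 : ¬ Commute d (a * b * a) := fun c => tc_ncomm (a := 5) (b := 33) (by
    simpa only [ed, ea, eb, map_mul, tc_conj (a := 20) (b := 9) 33] using c.map π)
  have c5 : ¬ Commute x y := fun c => tc_ncomm (a := 320) (b := 576) (ex ▸ ey ▸ c.map π)
  have xd : Commute x d := cm x hx d hd (by rw [ex, ed]; exact tc_comm)
  have xa : Commute x a := cm x hx a ha (by rw [ex, ea]; exact tc_comm)
  have xb : Commute x b := cm x hx b hb (by rw [ex, eb]; exact tc_comm)
  have yd : Commute y d := cm y hy d hd (by rw [ey, ed]; exact tc_comm)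
  have ya : Commute y a := cm y hy a ha (by rw [ey, ea]; exact tc_comm)
  have yb : Commute y b := cm y hy b hb (by rw [ey, eb]; exact tc_comm)
  have good : Good π (g * (x * y)) := by
    intro q hq c
    let v := EV.mk hQ q ((ker q).1 hq)
    have hv : rho Q hQ g (rho Q hQ x (rho Q hQ y v)) = v := by
      rw [← Module.End.mul_apply, ← Module.End.mul_apply, ← map_mul, ← map_mul, mul_assoc]
      exact (rho_fix_iff _ v).2 c.symm
    have ng : ∀ t ∈ D, Commute t d → Commute t a → Commute t b → ∀ w,
        nn (rho Q hQ) t (rho Q hQ g w) = nn (rho Q hQ) t w := fun t ht td ta tb w => by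
      have k : ∀ u ∈ D, Commute t u → ∀ w, nn (rho Q hQ) t (rho Q hQ u w) = nn (rho Q hQ) t w :=
        fun u hu c w => by rw [rho_eq]; linear_combination (norm := (apply c2; (try simp only [map_add, map_zero, Module.End.mul_apply, LinearMap.add_apply, Module.End.one_apply, LinearMap.zero_apply]); match_scalars <;> decide)) R.P ht hu c w
      simp only [g, map_mul, Module.End.mul_apply, k d hd td, k a ha ta, k b hb tb]
    have k1 := ng x hx xd xa xb (rho Q hQ x (rho Q hQ y v))
    have k2 := ng y hy yd ya yb (rho Q hQ x (rho Q hQ y v))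
    rw [hv, rho_eq, rho_eq] at k1 k2
    have vy : nn (rho Q hQ) y v = 0 := R.inj hy hx (fun c => c5 c.symm) (by
      linear_combination (norm := (apply c2; (try simp only [map_add, map_zero, Module.End.mul_apply, LinearMap.add_apply, Module.End.one_apply, LinearMap.zero_apply]); match_scalars <;> decide)) k1 + R.P hx hx (Commute.refl _) _ + R.P hx hx (Commute.refl _) v)
    have vx : nn (rho Q hQ) x v = 0 := R.inj hx hy c5 (by
      linear_combination (norm := (apply c2; (try simp only [map_add, map_zero, Module.End.mul_apply, LinearMap.add_apply, Module.End.one_apply, LinearMap.zero_apply]); match_scalars <;> decide)) k2 + DFunLike.congr_arg (nn (rho Q hQ) y * nn (rho Q hQ) x + nn (rho Q hQ) y) vy)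
    rw [rho_fix vy, rho_fix vx] at hv
    obtain ⟨vd, va, vb⟩ := R.fix_plane hd ha hb c1 c2' c3 c4 rfl
      (rc _ _ (by rw [eg, ed]; exact word_c _ _ (by decide +kernel))) (rc _ _ (by rw [eg, ea]; exact word_c _ _ (by decide +kernel)))
      (rc _ _ (by rw [eg, eb]; exact word_c _ _ (by decide +kernel))) hv
    refine congrArg EV.val (R.eq_zero_of_five (fun x hx y hy => exists_conj_of_class hD hx hy) hp ?_
      hd ha hb hx hy c1 c2' c3 c4 c5 xd xa xb yd ya yb vd va vb vx vy)
    intro w hw
    refine EV.ext (mem_bot.1 (hZ ▸ mem_center_iff.2 fun t => ?_))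
    obtain ⟨k, hk, e⟩ : π t ∈ (closure (Set.range p)).map π := by
      rw [MonoidHom.map_closure, ← Set.range_comp, show π ∘ p = tau from funext ep, closure_tau]
      exact mem_top _
    have := (commute_of_mem_closure (x := w.val) (by
      rintro _ ⟨j, rfl⟩; exact (nn_eq_zero_iff _ _).1 (hw j)) hk).mul_left
      (comm_of_sq hQ ((ker (k⁻¹ * t)).1 (by simp [e])) w.val_mem)
    rwa [mul_inv_cancel_left] at this
  rw [← hk]
  refine exists_complement_of_family hπ zI adj 0 (fun _ => Or.inr rfl) adj_symm ?_ ?_ ?_ ?_ ?_ ?_ ?_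
    (by rw [map_mul π g, map_mul π x, eg, ex, ey, word_z]) good
  · rintro i j (h | rfl)
    · exact (commute_zS _ _ h).symm
    · exact Commute.refl _
  · intro i j h
    have := chk_b i i.2 j j.2 ((adj_iff i j).1 h)
    rw [Nat.and_assoc] at this
    obtain ⟨u, h1, h2⟩ := exists_bit this
    rw [Nat.testBit_and, Bool.and_eq_true, ← adj_iff, ← adj_iff] at h2
    exact ⟨u, h1, adj_symm _ _ h2.1, adj_symm _ _ h2.2⟩
  · intro y u v a1 a2 b1 b2
    have lt : ∀ u : Fin 176, adj u 0 → u.1 < 41 := fun u h => by
      have := (adj_iff 0 u).1 (adj_symm _ _ h)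
      rw [show ((0 : Fin 176) : ℕ) = 0 from rfl, chk_0.1, Nat.testBit_two_pow_sub_one] at this
      simpa using this
    have := chk_m y y.2 u (lt u a1) ((adj_iff y u).1 (adj_symm _ _ a2)) v (lt v b1) ((adj_iff y v).1 (adj_symm _ _ b2))
    rw [Nat.and_assoc, Nat.and_assoc] at this
    obtain ⟨w, h1, h2⟩ := exists_bit this
    rw [Nat.testBit_and, Nat.testBit_and, Bool.and_eq_true, Bool.and_eq_true, ← adj_iff, ← adj_iff, ← adj_iff] at h2
    exact ⟨w, h1, adj_symm _ _ h2.1, adj_symm _ _ h2.2.1, adj_symm _ _ h2.2.2⟩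
  · intro h
    choose σ a e using fun i : Fin 176 => cover ((herm_su_smul h _ _).trans (hW i))
    have a0 : ∀ i, a i ≠ 0 := fun i k => by
      have := (herm_su_smul h _ _).trans (hW i)
      rw [e, k, zero_smul, herm_zero_left] at this
      exact zero_ne_one this
    refine ⟨σ, fun i => conj_zS h _ _ (e i), ?_⟩
    rintro i j (k | rfl)
    · rw [← herm_su_smul h, e, e, herm_smul_left, herm_smul_right] at k
      exact Or.inl (by simpa [a0] using k)
    · exact Or.inr rfl
  · intro i j e
    have := congrArg (· • W i) e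
    simp only [zI, zS_smul, hW] at this
    have e1 : (1 : GF4) • W i = hermForm 5 GF4 2 (W i) (W j) • W j := by
      have h3 := om_facts.1
      linear_combination (norm := module) this - congrArg (· • W i) h3 +
        congrArg (· • hermForm 5 GF4 2 (W i) (W j) • W j) h3
    have h0 : hermForm 5 GF4 2 (W i) (W j) ≠ 0 := fun k => by
      have := hW i
      rw [← one_smul GF4 (W i), e1, k, zero_smul, herm_zero_left] at this
      exact zero_ne_one this
    exact Fin.ext (by rw [← chk_I i i.2 1 one_ne_zero, e1, chk_I j j.2 _ h0])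
  · intro i
    obtain ⟨k, -, e | e⟩ := orbit (W i) fun k => by
      have := hW i
      rw [k, herm_zero_left] at this
      exact zero_ne_one this
    · have := hW i
      rw [e, herm_su_smul, herm_eq, (gen_iso 0 (by norm_num)).2] at this
      exact absurd this zero_ne_one
    · exact ⟨k, conj_zS k _ _ (a := 1) (by rw [one_smul]; exact e.symm)⟩
  · have := isSimpleGroup_su (n := 5) hGF4 (by norm_num) (by norm_num)
    have hn : (closure (Set.range zI)).Normal := ⟨fun x hx h => by
      have : (closure (Set.range zI)).map (MulAut.conj h).toMonoidHom ≤ closure (Set.range zI) := by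
        rw [MonoidHom.map_closure]
        refine closure_mono ?_
        rintro _ ⟨_, ⟨i, rfl⟩, rfl⟩
        obtain ⟨j, a, e⟩ := cover ((herm_su_smul h _ _).trans (hW i))
        exact ⟨j, (conj_zS h _ _ e).symm⟩
      exact this ⟨x, hx, rfl⟩⟩
    refine (hn.eq_bot_or_eq_top).resolve_left fun h => ?_
    have := congrArg (· • W 0) (mem_bot.1 (h ▸ subset_closure ⟨0, rfl⟩ : zI 0 ∈ (⊥ : Subgroup _)))
    simp only [zI, zS_smul, herm_eq, one_smul] at this
    exact absurd this (by decide +kernel)

end SU5

end CfsgLib.ThreeTrans.CH
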